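import Groth.Agent.UnifReg.Apply
import Groth.Agent.IntNum.Push
import Groth.Agent.QCoh.PushLin
import Groth.Agent.AmpleVan.AdicBase
import Groth.Agent.AmpleX.Generated
import Groth.Agent.ExpDescLib.Core
import Groth.Agent.QCohSupX.ClosedShriek
import Groth.Agent.QCoh.ClosedPush

/-!
Uniform regularity for quotients of free modules on a closed subscheme of projective space.
-/

set_option linter.style.haveILetI false
set_option linter.unusedSectionVars false
set_option backward.isDefEq.respectTransparency false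
set_option backward.isDefEq.respectTransparency.types false
set_option maxHeartbeats 1000000

universe u

open CategoryTheory CategoryTheory.Limits AlgebraicGeometry TopologicalSpace Opposite
open scoped Groth.Agent.H23.PicMul

noncomputable section

namespace Groth.Agent.UnifReg

section Abelian

variable {C : Type*} [Category C] [Abelian C] {A B D : C} (a : A ⟶ B) (b : B ⟶ D)

/-- The comparison of kernels of a composition. -/
def kerTo : kernel (a ≫ b) ⟶ kernel b :=
  kernel.lift b (kernel.ι (a ≫ b) ≫ a) (by rw [Category.assoc, kernel.condition])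

theorem epi_kerTo [Epi a] : Epi (kerTo a b) := by
  haveI : Epi (pullback.snd a (kernel.ι b)) := inferInstance
  let r : pullback a (kernel.ι b) ⟶ kernel (a ≫ b) := kernel.lift _ (pullback.fst a (kernel.ι b))
    (by rw [← Category.assoc, pullback.condition, Category.assoc, kernel.condition, comp_zero])
  have h : r ≫ kerTo a b = pullback.snd a (kernel.ι b) := by
    rw [← cancel_mono (kernel.ι b), Category.assoc, kerTo, kernel.lift_ι, ← Category.assoc, kernel.lift_ι,
      pullback.condition]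
  exact epi_of_epi_fac h

theorem kerTo_kernel_ι : (kernel.ι (kerTo a b) ≫ kernel.ι (a ≫ b)) ≫ a = 0 := by
  rw [Category.assoc, show kernel.ι (a ≫ b) ≫ a = kerTo a b ≫ kernel.ι b from (kernel.lift_ι _ _ _).symm,
    kernel.condition_assoc, zero_comp]

/-- The kernel of the comparison. -/
def kerToKernelIso : kernel (kerTo a b) ≅ kernel a where
  hom := kernel.lift a (kernel.ι (kerTo a b) ≫ kernel.ι (a ≫ b)) (kerTo_kernel_ι a b)
  inv := kernel.lift (kerTo a b) (kernel.lift (a ≫ b) (kernel.ι a) (by rw [kernel.condition_assoc, zero_comp]))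
    (by rw [← cancel_mono (kernel.ι b)]; simp [kerTo])
  hom_inv_id := by
    rw [← cancel_mono (kernel.ι (kerTo a b)), ← cancel_mono (kernel.ι (a ≫ b))]
    simp
  inv_hom_id := by
    rw [← cancel_mono (kernel.ι a)]
    simp

end Abelian

variable {k : Type u} [Field k] {n : ℕ}

theorem isMRegular_iso {M M' : (CohB1.ProjSpace n k).Modules} (e : M ≅ M') {m : ℤ}
    (h : Curv2.IsMRegular k n M m) : Curv2.IsMRegular k n M' m := fun i hi hin =>
  QCoh.subsingleton_HH_of_iso ((RegEpi.twF (k := k) (n := n) (m - (i : ℤ))).mapIso e) i (h i hi hin)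

/-- Uniform regularity, all dimensions. -/
theorem exists_uniform_regularity' (n p : ℕ) (χ₀ : ℕ → ℤ) :
    ∃ m : ℤ, ∀ (k : Type u) [Field k] (F : (CohB1.ProjSpace n k).Modules)
      (φ : FlatMod.freeMod (CohB1.ProjSpace n k) p ⟶ F), Coh.IsCoh F → Epi φ →
        (∀ t : ℕ, chi F t = χ₀ t) → Curv2.IsMRegular k n (kernel φ) m ∧ Curv2.IsMRegular k n F m := by
  rcases Nat.eq_zero_or_pos n with rfl | hn
  · exact ⟨0, fun k _ F φ _ _ _ => ⟨fun i hi hi' => absurd hi (by omega), fun i hi hi' => absurd hi (by omega)⟩⟩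
  · exact exists_uniform_regularity n hn p χ₀

variable {X : Scheme.{u}} (ι : X ⟶ CohB1.ProjSpace n k) [IsClosedImmersion ι]

theorem epi_unit_closed {G : (CohB1.ProjSpace n k).Modules} (hG : Coh.IsQCoh G) :
    Epi ((Scheme.Modules.pullbackPushforwardAdjunction ι).unit.app G) := by
  let η := (Scheme.Modules.pullbackPushforwardAdjunction ι).unit.app G
  have hP := QCoh.isQCoh_pushforward ι (QCoh.isQCoh_pullback ι hG)
  have hqc := QCoh.isQCoh_cokernel hG hP η
  refine Abelian.epi_of_cokernel_π_eq_zero η ((IsZero.eq_of_tgt ?_) _ _)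
  refine QCoh.isZero_of_app_eq_zero hqc fun V x => ?_
  obtain ⟨y, rfl⟩ := QCoh.app_surjective_of_epi hP hqc (cokernel.π η) V.2 x
  obtain ⟨w, rfl⟩ := (QCoh.unit_app_closed ι hG V.2).1 y
  exact congr(($(cokernel.condition η)).app V.1 w)

/-- The free module surjects onto the direct image of the free module. -/
theorem exists_epi_push_free (p : ℕ) :
    ∃ a : FlatMod.freeMod (CohB1.ProjSpace n k) p ⟶ (Scheme.Modules.pushforward ι).obj (FlatMod.freeMod X p), Epi a := by
  exact ⟨(Scheme.Modules.pullbackPushforwardAdjunction ι).unit.app (FlatMod.freeMod (CohB1.ProjSpace n k) p) ≫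
    (Scheme.Modules.pushforward ι).map (KFlatLib.pullFreeIso ι p).hom,
    @epi_comp _ _ _ _ _ _ (epi_unit_closed ι (isCoh_freeMod (k := k) (n := n) p).1) _ inferInstance⟩

variable {L : X.Modules} (hL : Nonempty (L ≅ (Scheme.Modules.pullback ι).obj (Twist.twistProjSpace n k 1)))

include hL in
theorem nonempty_push_twist (M : X.Modules) (l : ℕ) :
    Nonempty ((Scheme.Modules.pushforward ι).obj (ShStab.twist X L M l) ≅
      CohB1.tensorMod ((Scheme.Modules.pushforward ι).obj M) (Twist.twistProjSpace n k l)) := by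
  obtain ⟨eL⟩ := hL
  obtain ⟨e⟩ := HilbPoly.nonempty_pow n k l
  obtain ⟨e'⟩ := IntNum.pullback_tensorPow ι (Twist.twistProjSpace n k 1) l
  obtain ⟨d⟩ : Nonempty (CohB1.tensorPow L l ≅ (Scheme.Modules.pullback ι).obj (Twist.twistProjSpace n k l)) := by
    refine H23.PicMul.cl_eq_iff.1 ?_
    rw [H23.PicMul.cl_tensorPow, H23.PicMul.cl_eq_iff.2 ⟨eL⟩, ← H23.PicMul.cl_tensorPow]
    exact H23.PicMul.cl_eq_iff.2 ⟨e'.symm ≪≫ (Scheme.Modules.pullback ι).mapIso e.symm⟩
  obtain ⟨c⟩ := IntNum.push_tensor ι M (Twist.twistProjSpace n k (l : ℤ))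
  exact ⟨(Scheme.Modules.pushforward ι).mapIso ((DCoh.tensorBi.obj M).mapIso d) ≪≫ c⟩

include hL in
theorem isQCoh_twist {M : X.Modules} (hM : Coh.IsQCoh M) (l : ℕ) : Coh.IsQCoh (ShStab.twist X L M l) := by
  obtain ⟨eL⟩ := hL
  exact KFlatLib.isQCoh_tensor hM (ProjUPX.isQCoh_of_isInvertible (InvX.isInvertible_tensorPow
    (H23.PicMul.isInvertible_of_iso eL.symm (PicClLib.isInvertible_pullback ι
      (PnCoh.Finite.isInvertible_twist (ProjRegular.coords k n) ProjRegular.coords_mem ProjRegular.coords_cover 1))) l))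

variable [X.Over (Spec (CommRingCat.of k))] (hι : ι ≫ CohB1.ProjSpace.toSpec n k = X ↘ Spec (CommRingCat.of k))

include hL hι in
theorem nonempty_HH_twist {M : X.Modules} (hM : Coh.IsQCoh M) (l : ℕ) (i : ℕ) :
    Nonempty (Coh.HH X (ShStab.twist X L M l) i ≃ₗ[k]
      Coh.HH (CohB1.ProjSpace n k) (CohB1.tensorMod ((Scheme.Modules.pushforward ι).obj M) (Twist.twistProjSpace n k l)) i) := by
  obtain ⟨e⟩ := nonempty_push_twist ι hL M l
  obtain ⟨h⟩ := QCoh.HH_push_linear ι (Coh.toGlobal ((CohB1.ProjSpace n k) ↘ Spec (CommRingCat.of k)))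
    (Coh.toGlobal (X ↘ Spec (CommRingCat.of k))) (fun a => by rw [← hι]; rfl)
    (isQCoh_twist ι hL hM l) i
  exact ⟨h.trans (RegDescent.HHequiv (k := k) e i)⟩

include hL hι in
theorem chi_push {M : X.Modules} (hM : Coh.IsQCoh M) (l : ℕ) :
    chi ((Scheme.Modules.pushforward ι).obj M) l = Curv2.euler k X (ShStab.twist X L M l) :=
  finsum_congr fun i => by
    obtain ⟨e⟩ := nonempty_HH_twist ι hL hι hM l i
    rw [e.finrank_eq]

include hL hι in
theorem subsingleton_twist_of_reg {M : X.Modules} (hM : Coh.IsCoh M) {m : ℤ}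
    (h : Curv2.IsMRegular k n ((Scheme.Modules.pushforward ι).obj M) m) (l : ℕ) (hl : m ≤ l) {i : ℕ} (hi : 0 < i) :
    Subsingleton (Coh.HH X (ShStab.twist X L M l) i) := by
  obtain ⟨e⟩ := nonempty_HH_twist ι hL hι hM.1 l i
  haveI := subsingleton_HH_of_reg (QCoh.isCoh_pushforward_finite ι hM) h (i := i) hi (j := (l : ℤ)) (by omega)
  exact e.toEquiv.subsingleton

include hL in
theorem isGloballyGenerated_twist_of_reg {M : X.Modules} (hM : Coh.IsCoh M) {m : ℤ}
    (h : Curv2.IsMRegular k n ((Scheme.Modules.pushforward ι).obj M) m) (l : ℕ) (hl : m ≤ l) :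
    Curv2.IsGloballyGenerated (ShStab.twist X L M l) := by
  obtain ⟨e⟩ := nonempty_push_twist ι hL M l
  have hP := QCoh.isCoh_pushforward_finite ι hM
  have hgg := S1647.result k n _ hP (l : ℤ) (isMRegular_of_le hP hl h)
  haveI := QCohSupX.isIso_counit_closed ι (isQCoh_twist ι hL hM.1 l)
  exact AmpleX.isGloballyGenerated_of_iso
    (asIso ((Scheme.Modules.pullbackPushforwardAdjunction ι).counit.app (ShStab.twist X L M l)))
    (ExpDescLib.isGloballyGenerated_pullback ι (AmpleX.isGloballyGenerated_of_iso e.symm hgg))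

include hL hι in
/-- Uniform vanishing and generation for quotients of a free module. -/
theorem exists_uniform_twist (p : ℕ) (χ₀ : ℕ → ℤ) :
    ∃ m : ℤ, ∀ (F : X.Modules) (q : FlatMod.freeMod X p ⟶ F), Coh.IsCoh F → Epi q →
      (∀ t : ℕ, Curv2.euler k X (ShStab.twist X L F t) = χ₀ t) →
        Coh.IsCoh (kernel q) ∧ Curv2.IsMRegular k n ((Scheme.Modules.pushforward ι).obj F) m ∧
          Curv2.IsMRegular k n ((Scheme.Modules.pushforward ι).obj (kernel q)) m := by
  haveI : IsNoetherian (CohB1.ProjSpace n k) := Proj16.isNoetherian_proj _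
  haveI : IsLocallyNoetherian X := LocallyOfFiniteType.isLocallyNoetherian ι
  haveI : CompactSpace X := ⟨by simpa using (ι.isClosedEmbedding.isCompact_preimage isCompact_univ)⟩
  have hfX : Coh.IsCoh (FlatMod.freeMod X p) := CurveDeg.isCoh_of_isFinLocFree (KFlatLib.isFinLocFree_freeMod p)
  obtain ⟨a, ha⟩ := exists_epi_push_free ι p
  have hA := QCoh.isCoh_pushforward_finite ι hfX
  obtain ⟨m₁, hm₁⟩ := exists_uniform_regularity'.{u} n p fun t =>
    chi ((Scheme.Modules.pushforward ι).obj (FlatMod.freeMod X p)) t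
  obtain ⟨hJ, -⟩ := hm₁ k _ a hA ha fun t => rfl
  obtain ⟨m₂, hm₂⟩ := exists_uniform_regularity'.{u} n p χ₀
  refine ⟨max m₁ m₂, fun F q hF hq hχ => ?_⟩
  have hK : Coh.IsCoh (kernel q) := QCoh.isCoh_kernel hfX hF q
  haveI := AmpleVan.epi_push ι hfX.1 hF.1 q
  haveI := ha
  let b := (Scheme.Modules.pushforward ι).map q
  have hB := QCoh.isCoh_pushforward_finite ι hF
  haveI : Epi (a ≫ b) := epi_comp _ _
  obtain ⟨hK', hF'⟩ := hm₂ k _ (a ≫ b) hB (epi_comp _ _) fun t => (chi_push ι hL hι hF.1 t).trans (hχ t)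
  refine ⟨hK, isMRegular_of_le hB (le_max_right _ _) hF', ?_⟩
  haveI := epi_kerTo a b
  have hS : (ShortComplex.mk (kernel.ι (kerTo a b)) (kerTo a b) (kernel.condition _)).ShortExact :=
    .mk' (ShortComplex.exact_of_f_is_kernel _ (kernelIsKernel _)) inferInstance inferInstance
  have c2 := isCoh_kernel' (a ≫ b) (isCoh_freeMod p) hB
  have cJ := isCoh_kernel' a (isCoh_freeMod p) hA
  have c1 := isCoh_kernel' (kerTo a b) c2 (isCoh_kernel' b hA hB)
  have hR := isMRegular_X₃ hS c1 c2 (isMRegular_of_le c2 (le_max_right m₁ m₂) hK')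
    (isMRegular_of_le c1 (by omega) (isMRegular_iso (kerToKernelIso a b).symm hJ))
  exact isMRegular_iso (PreservesKernel.iso (Scheme.Modules.pushforward ι) q).symm hR

end Groth.Agent.UnifReg
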