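import Groth.Agent.UnifReg.Ext

/-!
Uniform regularity for quotients of a free module with given Hilbert function.
-/

set_option linter.style.haveILetI false
set_option linter.unusedSectionVars false
set_option backward.isDefEq.respectTransparency false
set_option backward.isDefEq.respectTransparency.types false
set_option maxHeartbeats 1000000

universe u

open CategoryTheory CategoryTheory.Limits AlgebraicGeometry
open Groth.Agent.PnCoh.Finite Groth.Agent.ProjRegular Groth.Agent.RegEpi

noncomputable section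

namespace Groth.Agent.UnifReg

/-- A binomial expansion is determined by its values at natural numbers. -/
theorem coeff_unique {c : ℕ} {a b : Fin c → ℤ}
    (h : ∀ m : ℕ, ∑ i, a i * Ring.choose (m : ℤ) (i : ℕ) = ∑ i, b i * Ring.choose (m : ℤ) (i : ℕ)) : a = b := by
  classical
  have key : ∀ (m : ℕ) (hm : m < c), a ⟨m, hm⟩ = b ⟨m, hm⟩ := by
    intro m
    induction m using Nat.strong_induction_on with
    | _ m ih =>
      intro hm
      have h' := sub_eq_zero.2 (h m)
      rw [← Finset.sum_sub_distrib, Finset.sum_eq_single (⟨m, hm⟩ : Fin c) ?_ (by simp)] at h'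
      · simp [Ring.choose_natCast] at h'
        linarith
      · intro i _ hi
        rcases lt_or_gt_of_ne (Fin.val_ne_of_ne hi) with hlt | hgt
        · rw [ih i hlt i.isLt, sub_self]
        · simp [Ring.choose_natCast, Nat.choose_eq_zero_of_lt (show m < (i : ℕ) from hgt)]
  exact funext fun i => key i i.isLt

variable {k : Type u} [Field k] {n : ℕ}

/-- Regularity passes upwards. -/
theorem isMRegular_of_le {M : (CohB1.ProjSpace n k).Modules} (hM : Coh.IsCoh M) {m m' : ℤ} (h : m ≤ m')
    (hreg : Curv2.IsMRegular k n M m) : Curv2.IsMRegular k n M m' := by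
  have := ProjRegular.isMRegular_add hM hreg (m' - m).toNat
  rwa [Int.toNat_of_nonneg (by omega), show m + (m' - m) = m' by ring] at this

theorem subsingleton_HH_of_reg {M : (CohB1.ProjSpace n k).Modules} (hM : Coh.IsCoh M) {m : ℤ}
    (hreg : Curv2.IsMRegular k n M m) {i : ℕ} (hi : 1 ≤ i) {j : ℤ} (hj : m - i ≤ j) :
    Subsingleton (Coh.HH (CohB1.ProjSpace n k) (CohB1.tensorMod M (Twist.twistProjSpace n k j)) i) := by
  rcases le_or_gt i n with hin | hin
  · have h := isMRegular_of_le hM (show m ≤ j + i by omega) hreg i hi hin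
    rwa [add_sub_cancel_right] at h
  · exact ProjRegular.subsingleton_HH_high hM j i hin

/-- Regularity of the last term of a short exact sequence. -/
theorem isMRegular_X₃ {S : ShortComplex (CohB1.ProjSpace n k).Modules} (hS : S.ShortExact)
    (h₁ : Coh.IsCoh S.X₁) (h₂ : Coh.IsCoh S.X₂) {m : ℤ} (hr₂ : Curv2.IsMRegular k n S.X₂ m)
    (hr₁ : Curv2.IsMRegular k n S.X₁ (m + 1)) : Curv2.IsMRegular k n S.X₃ m := fun i hi _ =>
  subsingleton_HH_X₃ (RegDescent.twSeq_exact (coords k n) coords_mem coords_cover hS (m - (i : ℤ))) i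
    (subsingleton_HH_of_reg h₂ hr₂ hi le_rfl)
    (subsingleton_HH_of_reg h₁ hr₁ (by omega) (by omega))

theorem isCoh_kernel' {A B : (CohB1.ProjSpace n k).Modules} (f : A ⟶ B) (hA : Coh.IsCoh A) (hB : Coh.IsCoh B) :
    Coh.IsCoh (kernel f) := by
  haveI : IsNoetherian (CohB1.ProjSpace n k) := Proj16.isNoetherian_proj _
  exact QCoh.isCoh_kernel hA hB f

/-- The kernel of a quotient of a free module has regularity bounded by the Hilbert function. -/
theorem exists_kernel_coeff (hn : 0 < n) {p : ℕ} {F : (CohB1.ProjSpace n k).Modules}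
    (φ : FlatMod.freeMod (CohB1.ProjSpace n k) p ⟶ F) [Epi φ] (hF : Coh.IsCoh F) :
    ∃ a : Fin (n + 1) → ℤ, (∀ j : ℤ, (p : ℤ) * Ring.choose (j + n) n - chi F j = ∑ i, a i * Ring.choose j (i : ℕ)) ∧
      Curv2.IsMRegular k n (kernel φ) (MvPolynomial.eval a (bound p (n + 1))) := by
  have hK := isCoh_kernel' φ (isCoh_freeMod p) hF
  have hS : (ShortComplex.mk (kernel.ι φ) φ (kernel.condition φ)).ShortExact :=
    .mk' (ShortComplex.exact_of_f_is_kernel _ (kernelIsKernel φ)) inferInstance inferInstance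
  obtain ⟨a, ha⟩ := exists_coeff_free hn hK (kernel.ι φ)
  refine ⟨a, fun j => ?_, isMRegular_free hn hK (kernel.ι φ) a ha⟩
  have h := chi_sub hS hK (isCoh_freeMod p) hF j
  rw [(isModel_free hn p).chi_eq] at h
  simp only [linDim] at h
  rw [← ha, h]
  ring

/-- Uniform regularity: the kernels and the quotients. -/
theorem exists_uniform_regularity (n : ℕ) (hn : 0 < n) (p : ℕ) (χ₀ : ℕ → ℤ) :
    ∃ m : ℤ, ∀ (k : Type u) [Field k] (F : (CohB1.ProjSpace n k).Modules)
      (φ : FlatMod.freeMod (CohB1.ProjSpace n k) p ⟶ F), Coh.IsCoh F → Epi φ →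
        (∀ t : ℕ, chi F t = χ₀ t) → Curv2.IsMRegular k n (kernel φ) m ∧ Curv2.IsMRegular k n F m := by
  classical
  by_cases hex : ∃ a : Fin (n + 1) → ℤ, ∀ t : ℕ,
      (p : ℤ) * Ring.choose ((t : ℤ) + n) n - χ₀ t = ∑ i, a i * Ring.choose (t : ℤ) (i : ℕ)
  · obtain ⟨a, ha⟩ := hex
    refine ⟨max (MvPolynomial.eval a (bound p (n + 1))) 0, fun k _ F φ hF hφ hχ => ?_⟩
    obtain ⟨b, hb, hreg⟩ := exists_kernel_coeff hn φ hF
    obtain rfl : b = a := coeff_unique fun t => by rw [← hb, ← ha, hχ]
    have hK := isCoh_kernel' φ (isCoh_freeMod p) hF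
    have hm := isMRegular_of_le hK (le_max_left _ 0) hreg
    refine ⟨hm, isMRegular_X₃ (S := ShortComplex.mk (kernel.ι φ) φ (kernel.condition φ))
      (.mk' (ShortComplex.exact_of_f_is_kernel _ (kernelIsKernel φ)) inferInstance inferInstance)
      hK (isCoh_freeMod p) (isMRegular_of_le (isCoh_freeMod p) (le_max_right _ 0) (isModel_free hn p).reg)
      (isMRegular_of_le hK (by omega) hm)⟩
  · refine ⟨0, fun k _ F φ hF hφ hχ => ?_⟩
    obtain ⟨b, hb, -⟩ := exists_kernel_coeff hn φ hF
    exact absurd ⟨b, fun t => by rw [← hb, hχ]⟩ hex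

end Groth.Agent.UnifReg
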