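import Mathlib.RingTheory.Binomial
import Mathlib.Algebra.MvPolynomial.CommRing
import Mathlib.Algebra.BigOperators.Fin
import Mathlib.Algebra.MvPolynomial.Monad
import Mathlib.Data.Nat.Choose.Bounds
import Mathlib.Tactic.Linarith
import Mathlib.Tactic.Positivity

/-!
Binomial coefficient bookkeeping for regularity bounds.
-/

namespace Groth.Agent.UnifReg

open Finset

/-- Change of basis from `C(r-1, i)` to `C(r, i)`. -/
def shift {R : Type*} [CommRing R] : (c : ℕ) → (Fin c → R) → (Fin c → R)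
  | 0, a => a
  | c + 1, a => fun i => a i - (Fin.snoc (α := fun _ => R) (shift c (fun i => a i.succ)) 0) i

theorem map_shift {R S : Type*} [CommRing R] [CommRing S] (φ : R →+* S) :
    ∀ (c : ℕ) (a : Fin c → R) (i : Fin c), φ (shift c a i) = shift c (fun i => φ (a i)) i := by
  intro c
  induction c with
  | zero => intro a i; exact i.elim0
  | succ c ih =>
    intro a i
    show φ (a i - Fin.snoc (α := fun _ => R) (shift c fun i => a i.succ) 0 i) =
      φ (a i) - Fin.snoc (α := fun _ => S) (shift c fun i => φ (a i.succ)) 0 i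
    rw [map_sub]
    congr 1
    induction i using Fin.lastCases with
    | last => simp
    | cast i => simp [ih]

theorem choose_pred_succ (r : ℤ) (i : ℕ) :
    Ring.choose (r - 1) (i + 1) = Ring.choose r (i + 1) - Ring.choose (r - 1) i := by
  have h := Ring.choose_succ_succ (r - 1) i
  rw [sub_add_cancel] at h
  linarith

theorem sum_shift : ∀ (c : ℕ) (a : Fin c → ℤ) (r : ℤ),
    ∑ i, a i * Ring.choose (r - 1) (i : ℕ) = ∑ i, shift c a i * Ring.choose r (i : ℕ) := by
  intro c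
  induction c with
  | zero => intro a r; simp
  | succ c ih =>
    intro a r
    have hR : ∑ i, shift (c + 1) a i * Ring.choose r (i : ℕ) =
        ∑ i, a i * Ring.choose r (i : ℕ) - ∑ i, shift c (fun i => a i.succ) i * Ring.choose r (i : ℕ) := by
      simp only [shift, sub_mul, sum_sub_distrib]
      congr 1
      rw [Fin.sum_univ_castSucc]
      simp
    rw [hR, ← ih (fun i => a i.succ) r, Fin.sum_univ_succ, Fin.sum_univ_succ (fun i => a i * Ring.choose r (i : ℕ))]
    simp only [Fin.val_zero, Ring.choose_zero_right, Fin.val_succ, choose_pred_succ, mul_sub, sum_sub_distrib]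
    ring

theorem exists_unshift (c : ℕ) (b : Fin c → ℤ) :
    ∃ a : Fin c → ℤ, ∀ r : ℤ, ∑ i, b i * Ring.choose r (i : ℕ) = ∑ i, a i * Ring.choose (r - 1) (i : ℕ) := by
  cases c with
  | zero => exact ⟨b, fun r => by simp⟩
  | succ c =>
    refine ⟨fun i => b i + Fin.snoc (α := fun _ => ℤ) (fun i => b i.succ) 0 i, fun r => ?_⟩
    simp only [add_mul, sum_add_distrib]
    rw [Fin.sum_univ_castSucc (fun i => Fin.snoc (α := fun _ => ℤ) (fun i => b i.succ) 0 i * _)]
    simp only [Fin.snoc_castSucc, Fin.snoc_last, zero_mul, add_zero, Fin.val_castSucc]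
    rw [Fin.sum_univ_succ, Fin.sum_univ_succ (fun i => b i * Ring.choose (r - 1) (i : ℕ))]
    simp only [Fin.val_zero, Ring.choose_zero_right, Fin.val_succ]
    rw [add_assoc, ← sum_add_distrib]
    congr 1
    refine sum_congr rfl fun i _ => ?_
    rw [choose_pred_succ]
    ring

/-- The difference of a binomial expansion. -/
theorem sum_diff (c : ℕ) (a : Fin (c + 1) → ℤ) (r : ℤ) :
    (∑ i, a i * Ring.choose r (i : ℕ)) - (∑ i, a i * Ring.choose (r - 1) (i : ℕ)) =
      ∑ i, shift c (fun i => a i.succ) i * Ring.choose r (i : ℕ) := by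
  rw [← sum_shift, Fin.sum_univ_succ, Fin.sum_univ_succ (fun i => a i * Ring.choose (r - 1) (i : ℕ))]
  simp only [Fin.val_zero, Ring.choose_zero_right, Fin.val_succ, choose_pred_succ, mul_sub, sum_sub_distrib]
  ring

theorem eq_of_diff {f g : ℤ → ℤ} (h0 : f 0 = g 0) (h : ∀ r, f r - f (r - 1) = g r - g (r - 1)) : ∀ r, f r = g r := by
  intro r
  induction r using Int.induction_on with
  | zero => exact h0
  | succ i ih => have := h ((i : ℤ) + 1); rw [add_sub_cancel_right] at this; linarith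
  | pred i ih => have := h (-(i : ℤ)); linarith

/-- A function with binomial difference is binomial. -/
theorem exists_coeff_of_diff {c : ℕ} {f : ℤ → ℤ} {b : Fin c → ℤ}
    (h : ∀ r, f r - f (r - 1) = ∑ i, b i * Ring.choose r (i : ℕ)) :
    ∃ a : Fin (c + 1) → ℤ, ∀ r, f r = ∑ i, a i * Ring.choose r (i : ℕ) := by
  obtain ⟨a, ha⟩ := exists_unshift c b
  refine ⟨Fin.cons (f 0) a, eq_of_diff ?_ fun r => ?_⟩
  · rw [Fin.sum_univ_succ]
    simp [Ring.choose_zero_succ]
  · rw [sum_diff, ← sum_shift, h r, ha r]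
    simp

/-- The Hilbert function of a linear space of dimension `c - 1`. -/
def linDim : ℕ → ℤ → ℤ
  | 0, _ => 0
  | c + 1, j => Ring.choose (j + c) c

theorem linDim_diff (c : ℕ) (j : ℤ) : linDim (c + 1) j - linDim (c + 1) (j - 1) = linDim c j := by
  cases c with
  | zero => simp [linDim]
  | succ c =>
    show Ring.choose (j + ((c + 1 : ℕ) : ℤ)) (c + 1) - Ring.choose (j - 1 + ((c + 1 : ℕ) : ℤ)) (c + 1) =
      Ring.choose (j + c) c
    rw [show j - 1 + ((c + 1 : ℕ) : ℤ) = (j + ((c + 1 : ℕ) : ℤ)) - 1 by ring, choose_pred_succ,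
      show j + ((c + 1 : ℕ) : ℤ) - 1 = j + c by push_cast; ring]
    ring

theorem choose_le_pow_int {y : ℤ} (hy : 0 ≤ y) (c : ℕ) : 0 ≤ Ring.choose y c ∧ Ring.choose y c ≤ y ^ c := by
  obtain ⟨m, rfl⟩ : ∃ m : ℕ, y = m := ⟨y.toNat, (Int.toNat_of_nonneg hy).symm⟩
  rw [Ring.choose_natCast]
  exact ⟨by positivity, by exact_mod_cast Nat.choose_le_pow m c⟩

section Bound

open MvPolynomial

/-- Variables for the difference. -/
noncomputable def diffVar (c : ℕ) : Fin c → MvPolynomial (Fin (c + 1)) ℤ :=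
  shift c fun i => X i.succ

/-- The auxiliary bound for the hyperplane section. -/
noncomputable def subBound {c : ℕ} (B : MvPolynomial (Fin c) ℤ) : MvPolynomial (Fin (c + 1)) ℤ :=
  (bind₁ (diffVar c) B) ^ 2 + 1

/-- The regularity bound. -/
noncomputable def bound (p : ℕ) : (c : ℕ) → MvPolynomial (Fin c) ℤ
  | 0 => 0
  | c + 1 => subBound (bound p c) + (C (p : ℤ) : MvPolynomial (Fin (c + 1)) ℤ) * (subBound (bound p c) + C (c : ℤ)) ^ c +
      ∑ j : Fin (c + 1), X j ^ 2 * (subBound (bound p c)) ^ (j : ℕ)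

theorem eval_bind_diffVar (c : ℕ) (a : Fin (c + 1) → ℤ) (B : MvPolynomial (Fin c) ℤ) :
    eval a (bind₁ (diffVar c) B) = eval (shift c fun i => a i.succ) B := by
  rw [eval, eval₂Hom_bind₁]
  refine congrArg (fun w => eval w B) (funext fun i => ?_)
  have h := map_shift (eval a) c (fun i : Fin c => (X i.succ : MvPolynomial (Fin (c + 1)) ℤ)) i
  simpa [diffVar] using h

/-- The main numerical estimate. -/
theorem le_eval_bound (p c : ℕ) (a : Fin (c + 1) → ℤ) :
    let m₁ := (eval (shift c fun i => a i.succ) (bound p c)) ^ 2 + 1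
    1 ≤ m₁ ∧ eval (shift c fun i => a i.succ) (bound p c) ≤ m₁ ∧
      m₁ + ((p : ℤ) * linDim (c + 1) (m₁ - 1) - ∑ i, a i * Ring.choose (m₁ - 1) (i : ℕ)) ≤
        eval a (bound p (c + 1)) := by
  intro m₁
  set v := eval (shift c fun i => a i.succ) (bound p c)
  have h1 : 1 ≤ m₁ := by nlinarith [sq_nonneg v]
  refine ⟨h1, by nlinarith [sq_nonneg (v - 1), sq_nonneg v], ?_⟩
  have hM : eval a (subBound (bound p c)) = m₁ := by
    simp only [subBound, map_add, map_pow, map_one, eval_bind_diffVar]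
    rfl
  have hev : eval a (bound p (c + 1)) = m₁ + (p : ℤ) * (m₁ + c) ^ c + ∑ j : Fin (c + 1), a j ^ 2 * m₁ ^ (j : ℕ) := by
    simp [bound, hM]
  rw [hev]
  have hA : linDim (c + 1) (m₁ - 1) ≤ (m₁ + c) ^ c :=
    (choose_le_pow_int (by omega) c).2.trans (pow_le_pow_left₀ (by omega) (by omega) c)
  have hB : -(∑ i, a i * Ring.choose (m₁ - 1) (i : ℕ)) ≤ ∑ j : Fin (c + 1), a j ^ 2 * m₁ ^ (j : ℕ) := by
    rw [← sum_neg_distrib]
    refine sum_le_sum fun i _ => ?_
    obtain ⟨h2, h3⟩ := choose_le_pow_int (show 0 ≤ m₁ - 1 by omega) (i : ℕ)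
    have h4 : (m₁ - 1) ^ (i : ℕ) ≤ m₁ ^ (i : ℕ) := pow_le_pow_left₀ (by omega) (by omega) _
    have h5 : -a i ≤ a i ^ 2 := by nlinarith [sq_nonneg (a i + 1), sq_nonneg (a i), Int.natAbs_le_self_sq (a i)]
    calc -(a i * Ring.choose (m₁ - 1) (i : ℕ)) = (-a i) * Ring.choose (m₁ - 1) (i : ℕ) := by ring
      _ ≤ a i ^ 2 * Ring.choose (m₁ - 1) (i : ℕ) := mul_le_mul_of_nonneg_right h5 h2
      _ ≤ a i ^ 2 * m₁ ^ (i : ℕ) := mul_le_mul_of_nonneg_left (h3.trans h4) (sq_nonneg _)
  have hC : (p : ℤ) * linDim (c + 1) (m₁ - 1) ≤ (p : ℤ) * (m₁ + c) ^ c :=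
    mul_le_mul_of_nonneg_left hA (Nat.cast_nonneg p)
  linarith

end Bound

end Groth.Agent.UnifReg
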