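import Groth.Agent.UnifReg.Induct
import Groth.Agent.CMReg7.PullVanish
import Groth.Agent.RGLib.Lim8Exact
import Groth.Agent.S0034
import Groth.Agent.S7690
import Groth.Agent.S4466
import Groth.Agent.QCoh.RpushStalk
import Groth.Agent.KFlatLib.Perfect.LocFree
import Groth.Agent.SlopeBound.Sect
import Mathlib.RingTheory.Flat.FaithfullyFlat.Basic

/-!
Uniform regularity of submodules of free modules on projective space over any field.
-/

set_option linter.style.haveILetI false
set_option linter.unusedSectionVars false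
set_option backward.isDefEq.respectTransparency false
set_option backward.isDefEq.respectTransparency.types false
set_option maxHeartbeats 1000000

universe u

open CategoryTheory CategoryTheory.Limits AlgebraicGeometry TopologicalSpace Opposite
open Groth.Agent.PnCoh.Finite Groth.Agent.ProjRegular Groth.Agent.RegEpi

noncomputable section

namespace Groth.Agent.UnifReg

section Split

variable {X : Scheme.{u}}

/-- The free module of rank `m + 1` is an extension. -/
theorem exists_free_ses (m : ℕ) : ∃ (f : FlatMod.freeMod X m ⟶ FlatMod.freeMod X (m + 1))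
    (g : FlatMod.freeMod X (m + 1) ⟶ Coh.structureModule X) (w : f ≫ g = 0),
    (ShortComplex.mk f g w).ShortExact := by
  let f : FlatMod.freeMod X m ⟶ FlatMod.freeMod X (m + 1) :=
    Sigma.desc fun i => H23.Frame.incl X (m + 1) i.castSucc
  let r : FlatMod.freeMod X (m + 1) ⟶ FlatMod.freeMod X m :=
    Sigma.desc fun j => Fin.lastCases 0 (fun i => H23.Frame.incl X m i) j
  have w : f ≫ H23.Frame.proj X (m + 1) (Fin.last m) = 0 := by
    refine Sigma.hom_ext _ _ fun i => ?_
    show H23.Frame.incl X m i ≫ f ≫ _ = _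
    rw [comp_zero, ← Category.assoc, show H23.Frame.incl X m i ≫ f = _ from Sigma.ι_desc _ _,
      H23.Frame.incl_proj, if_neg i.castSucc_lt_last.ne]
  have h1 : f ≫ r = 𝟙 _ := by
    refine Sigma.hom_ext _ _ fun i => ?_
    show H23.Frame.incl X m i ≫ f ≫ r = _
    rw [← Category.assoc, show H23.Frame.incl X m i ≫ f = _ from Sigma.ι_desc _ _,
      show H23.Frame.incl X (m + 1) i.castSucc ≫ r = _ from Sigma.ι_desc _ _, Fin.lastCases_castSucc,
      Category.comp_id]
    rfl
  refine ⟨f, _, w, (ShortComplex.Splitting.shortExact (s :=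
    { r := r
      s := H23.Frame.incl X (m + 1) (Fin.last m)
      f_r := h1
      s_g := by rw [H23.Frame.incl_proj, if_pos rfl]
      id := by
        refine Sigma.hom_ext _ _ fun j => ?_
        show H23.Frame.incl X (m + 1) j ≫ (_ + _) = H23.Frame.incl X (m + 1) j ≫ 𝟙 _
        rw [Preadditive.comp_add, Category.comp_id, ← Category.assoc, ← Category.assoc,
          show H23.Frame.incl X (m + 1) j ≫ r = _ from Sigma.ι_desc _ _, H23.Frame.incl_proj]
        induction j using Fin.lastCases with
        | last => rw [Fin.lastCases_last, zero_comp, zero_add, if_pos rfl, Category.id_comp]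
        | cast i =>
          rw [Fin.lastCases_castSucc, if_neg i.castSucc_lt_last.ne, zero_comp, add_zero,
            show H23.Frame.incl X m i ≫ f = _ from Sigma.ι_desc _ _] }))⟩

end Split

variable {k : Type u} [Field k] {n : ℕ}

theorem isCoh_freeMod (p : ℕ) : Coh.IsCoh (FlatMod.freeMod (CohB1.ProjSpace n k) p) := by
  haveI : IsNoetherian (CohB1.ProjSpace n k) := Proj16.isNoetherian_proj _
  exact CurveDeg.isCoh_of_isFinLocFree (KFlatLib.isFinLocFree_freeMod p)

theorem nonempty_structure_twist (j : ℤ) :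
    Nonempty (CohB1.tensorMod (Coh.structureModule (CohB1.ProjSpace n k)) (Twist.twistProjSpace n k j) ≅
      Twist.twistProjSpace n k j) := by
  obtain ⟨c⟩ := H23.PicMul.comm (Coh.structureModule (CohB1.ProjSpace n k)) (Twist.twistProjSpace n k j)
  obtain ⟨e⟩ := H23.PicMul.unit (Twist.twistProjSpace n k j)
  exact ⟨c ≪≫ e⟩

theorem chi_structure (hn : 0 < n) (j : ℤ) :
    chi (Coh.structureModule (CohB1.ProjSpace n k)) j = Ring.choose (j + n) n := by
  haveI : IsProper ((CohB1.ProjSpace n k) ↘ Spec (CommRingCat.of k)) := PnCoh.Chow.isProper_toSpec n k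
  rw [chi, (HilbPoly.additive_euler k).iso _ _ (nonempty_structure_twist j),
    CurveCohLib.euler_eq_sum (N := n + 1) fun i hi =>
      S0844.result k n j i (fun h => by omega) (fun h => by omega)]
  exact S4466.result k n hn j

theorem reg_structure (i : ℕ) (hi : 1 ≤ i) (hin : i ≤ n) :
    Subsingleton (Coh.HH (CohB1.ProjSpace n k)
      (CohB1.tensorMod (Coh.structureModule (CohB1.ProjSpace n k)) (Twist.twistProjSpace n k (0 - i))) i) := by
  obtain ⟨e⟩ := nonempty_structure_twist (k := k) (n := n) (0 - (i : ℤ))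
  exact QCoh.subsingleton_HH_of_iso e.symm i
    (S0844.result k n _ i (fun h => by omega) (fun h => by omega))

/-- The free module as a model. -/
theorem isModel_free (hn : 0 < n) : ∀ p : ℕ, IsModel p (n + 1) (FlatMod.freeMod (CohB1.ProjSpace n k) p) := by
  intro p
  induction p with
  | zero =>
    have hz : IsZero (FlatMod.freeMod (CohB1.ProjSpace n k) 0) :=
      (IsZero.iff_id_eq_zero _).2 (Sigma.hom_ext _ _ fun i => i.elim0)
    exact ⟨isCoh_freeMod 0, fun i _ _ => Euler.subsingleton_HH_of_isZero (isZero_twF_obj hz _) i,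
      fun j => by rw [chi_of_isZero hz]; simp⟩
  | succ m ih =>
    obtain ⟨f, g, w, hS⟩ := exists_free_ses (X := CohB1.ProjSpace n k) m
    refine ⟨isCoh_freeMod _, fun i hi hin => ?_, fun j => ?_⟩
    · exact QCoh.subsingleton_HH_X₂ (RegDescent.twSeq_exact (coords k n) coords_mem coords_cover hS (0 - (i : ℤ)))
        i (ih.reg i hi hin) (reg_structure i hi hin)
    · haveI : IsNoetherian (CohB1.ProjSpace n k) := Proj16.isNoetherian_proj _
      rw [show chi (FlatMod.freeMod (CohB1.ProjSpace n k) (m + 1)) j = _ from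
        chi_sub hS (isCoh_freeMod m) (isCoh_freeMod _) QCoh.isCoh_structureModule' j]
      rw [ih.chi_eq, chi_structure hn]
      show _ = _ * Ring.choose (j + n) n
      simp only [linDim]
      push_cast
      ring

section Extension

variable (K : Type u) [Field K] [Algebra k K]

/-- The extension of a module to a larger field. -/
abbrev extMod (F : (CohB1.ProjSpace n k).Modules) : (CohB1.ProjSpace n K).Modules :=
  (Scheme.Modules.pullback (ProjX.pmap n (algebraMap k K))).obj F

theorem nonempty_HH_ext (M : (CohB1.ProjSpace n k).Modules) (hM : Coh.IsQCoh M) (i : ℕ) :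
    Nonempty (TensorProduct k K (Coh.HH (CohB1.ProjSpace n k) M i) ≃ₗ[K] Coh.HH (CohB1.ProjSpace n K) (extMod K M) i) := by
  haveI := hM
  haveI : IsNoetherian (CohB1.ProjSpace n k) := Proj16.isNoetherian_proj _
  exact S0034.result k K (CohB1.ProjSpace n k) (CohB1.ProjSpace n K) _ (ProjX.isPullback_pmap n _) M i

theorem finrank_HH_ext (M : (CohB1.ProjSpace n k).Modules) (hM : Coh.IsQCoh M) (i : ℕ) :
    Module.finrank K (Coh.HH (CohB1.ProjSpace n K) (extMod K M) i) = Module.finrank k (Coh.HH (CohB1.ProjSpace n k) M i) := by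
  obtain ⟨e⟩ := nonempty_HH_ext K M hM i
  rw [← e.finrank_eq, Module.finrank_baseChange]

omit [Algebra k K] in
theorem nonempty_pullback_tensor_congr {X Y : Scheme.{u}} (f : Y ⟶ X) (A B : X.Modules) {B' : Y.Modules}
    (e : (Scheme.Modules.pullback f).obj B ≅ B') :
    Nonempty ((Scheme.Modules.pullback f).obj (CohB1.tensorMod A B) ≅
      CohB1.tensorMod ((Scheme.Modules.pullback f).obj A) B') := by
  obtain ⟨a⟩ := H23.PicMul.pull f A B
  exact ⟨a ≪≫ ((DCoh.tensorBi (X := Y)).obj _).mapIso e⟩

theorem nonempty_ext_twist (F : (CohB1.ProjSpace n k).Modules) (j : ℤ) :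
    Nonempty (extMod K (CohB1.tensorMod F (Twist.twistProjSpace n k j)) ≅
      CohB1.tensorMod (extMod K F) (Twist.twistProjSpace n K j)) := by
  obtain ⟨b⟩ := CMReg7.nonempty_pullback_twist n (algebraMap k K) j
  exact nonempty_pullback_tensor_congr (ProjX.pmap n (algebraMap k K)) F (Twist.twistProjSpace n k j) b

theorem isCoh_ext {F : (CohB1.ProjSpace n k).Modules} (hF : Coh.IsCoh F) : Coh.IsCoh (extMod K F) :=
  ⟨QCoh.isQCoh_pullback _ hF.1, QCoh.isFT_pullback _ hF.1 hF.2⟩

theorem chi_ext {F : (CohB1.ProjSpace n k).Modules} (hF : Coh.IsCoh F) (j : ℤ) :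
    chi (extMod K F) j = chi F j := by
  haveI : IsProper ((CohB1.ProjSpace n K) ↘ Spec (CommRingCat.of K)) := PnCoh.Chow.isProper_toSpec n K
  rw [chi, ← (HilbPoly.additive_euler K).iso _ _ (nonempty_ext_twist K F j)]
  exact finsum_congr fun i => by rw [finrank_HH_ext K _ (ProjRegular.isCoh_twistBy hF j).1 i]

theorem mono_ext {p : ℕ} {F : (CohB1.ProjSpace n k).Modules} (ι : F ⟶ FlatMod.freeMod (CohB1.ProjSpace n k) p)
    [Mono ι] : ∃ ι' : extMod K F ⟶ FlatMod.freeMod (CohB1.ProjSpace n K) p, Mono ι' := by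
  haveI : Flat (Spec.map (CommRingCat.ofHom (algebraMap k K))) := by
    rw [HasRingHomProperty.Spec_iff (P := @Flat)]
    exact RingHom.flat_algebraMap_iff.2 inferInstance
  haveI : Flat (ProjX.pmap n (algebraMap k K)) :=
    MorphismProperty.of_isPullback (P := @Flat) (ProjX.isPullback_pmap n (algebraMap k K)).flip ‹_›
  haveI := RGLib.Lim8.preservesFiniteLimits_pullback (ProjX.pmap n (algebraMap k K))
  haveI : Mono ((Scheme.Modules.pullback (ProjX.pmap n (algebraMap k K))).map ι) := inferInstance
  exact ⟨(Scheme.Modules.pullback (ProjX.pmap n (algebraMap k K))).map ι ≫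
    (KFlatLib.pullFreeIso (ProjX.pmap n (algebraMap k K)) p).hom, mono_comp _ _⟩

theorem isMRegular_of_ext {F : (CohB1.ProjSpace n k).Modules} (hF : Coh.IsCoh F) {m : ℤ}
    (h : Curv2.IsMRegular K n (extMod K F) m) : Curv2.IsMRegular k n F m := by
  intro i hi hin
  obtain ⟨e⟩ := nonempty_HH_ext K _ (ProjRegular.isCoh_twistBy hF (m - (i : ℤ))).1 i
  obtain ⟨φ⟩ := nonempty_ext_twist K F (m - (i : ℤ))
  haveI := QCoh.subsingleton_HH_of_iso φ.symm i (h i hi hin)
  exact (Module.FaithfullyFlat.subsingleton_tensorProduct_iff_right k K).1 e.toEquiv.subsingleton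

end Extension

variable {p : ℕ} {F : (CohB1.ProjSpace n k).Modules}

/-- The Hilbert function of a submodule of a free module is binomial. -/
theorem exists_coeff_free (hn : 0 < n) (hF : Coh.IsCoh F) (ι : F ⟶ FlatMod.freeMod (CohB1.ProjSpace n k) p) [Mono ι] :
    ∃ a : Fin (n + 1) → ℤ, ∀ r, chi F r = ∑ i, a i * Ring.choose r (i : ℕ) := by
  let K := AlgebraicClosure k
  obtain ⟨ι', hι'⟩ := mono_ext K ι
  obtain ⟨a, ha⟩ := @exists_coeff K _ n _ p (n + 1) _ _ (isModel_free hn p) ι' hι' (isCoh_ext K hF)
  exact ⟨a, fun r => (chi_ext K hF r).symm.trans (ha r)⟩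

/-- Uniform regularity of submodules of free modules. -/
theorem isMRegular_free (hn : 0 < n) (hF : Coh.IsCoh F) (ι : F ⟶ FlatMod.freeMod (CohB1.ProjSpace n k) p) [Mono ι]
    (a : Fin (n + 1) → ℤ) (ha : ∀ r, chi F r = ∑ i, a i * Ring.choose r (i : ℕ)) :
    Curv2.IsMRegular k n F (MvPolynomial.eval a (bound p (n + 1))) := by
  let K := AlgebraicClosure k
  obtain ⟨ι', hι'⟩ := mono_ext K ι
  exact isMRegular_of_ext K hF (@isMRegular_bound K _ n _ p (n + 1) _ _ (isModel_free hn p) ι' hι' (isCoh_ext K hF) a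
    fun r => (chi_ext K hF r).trans (ha r))

end Groth.Agent.UnifReg
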