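import Groth.Agent.UnifReg.MulLin
import Groth.Agent.UnifReg.Binom
import Groth.Agent.Lib.RegDescent
import Groth.Agent.S16627
import Groth.Agent.S11296
import Groth.Agent.S1647
import Groth.Agent.VolLib.Growth
import Groth.Agent.HilbPoly.PnTwist
import Groth.Agent.Lib.Euler

/-!
Uniform regularity of submodules of a regular module with linear Hilbert function.
-/

set_option linter.style.haveILetI false
set_option linter.unusedSectionVars false
set_option backward.isDefEq.respectTransparency false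
set_option backward.isDefEq.respectTransparency.types false
set_option maxHeartbeats 1000000

universe u

open CategoryTheory CategoryTheory.Limits AlgebraicGeometry TopologicalSpace Opposite
open Groth.Agent.PnCoh.Finite Groth.Agent.ProjRegular Groth.Agent.RegEpi

noncomputable section

namespace Groth.Agent.UnifReg

section Abelian

variable {C : Type*} [Category C] [Abelian C]

/-- The map of cokernels is mono. -/
theorem mono_cokernel_map {G E Q G' E' Q' : C} (f : G ⟶ E) [Mono f] (q : E ⟶ Q) (hq : f ≫ q = 0)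
    (f' : G' ⟶ E') (q' : E' ⟶ Q') (w : f' ≫ q' = 0) (hS : (ShortComplex.mk f' q' w).ShortExact)
    (a : G' ⟶ G) (b : E' ⟶ E) (c : Q' ⟶ Q) [Mono b] [Mono c]
    (h₁ : a ≫ f = f' ≫ b) (h₂ : b ≫ q = q' ≫ c) :
    Mono (cokernel.map a b f' f h₁) := by
  refine Preadditive.mono_of_cancel_zero _ fun {T} h hh => ?_
  let π' := pullback.fst h (cokernel.π a)
  let g := pullback.snd h (cokernel.π a)
  have hπ : π' ≫ h = g ≫ cokernel.π a := pullback.condition
  have hg : (g ≫ f) ≫ cokernel.π b = 0 := by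
    have : π' ≫ h ≫ cokernel.map a b f' f h₁ = 0 := by rw [hh, comp_zero]
    rw [← Category.assoc, hπ, Category.assoc, cokernel.map, cokernel.π_desc, ← Category.assoc] at this
    exact this
  obtain ⟨e, he⟩ : ∃ e, e ≫ b = g ≫ f := ⟨Abelian.monoLift b _ hg, Abelian.monoLift_comp b _ hg⟩
  have he' : e ≫ q' = 0 := by
    rw [← cancel_mono c, zero_comp, Category.assoc, ← h₂, ← Category.assoc, he, Category.assoc, hq, comp_zero]
  haveI : Mono f' := hS.mono_f
  obtain ⟨g', hg'⟩ : ∃ g', g' ≫ f' = e := ⟨hS.exact.lift e he', hS.exact.lift_f e he'⟩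
  have hga : g = g' ≫ a := by
    rw [← cancel_mono f, ← he, ← hg', Category.assoc, Category.assoc, h₁]
  rw [← cancel_epi π', comp_zero, hπ, hga, Category.assoc, cokernel.condition, comp_zero]

end Abelian

section Graded

variable {R A : Type u} [CommRing R] [CommRing A] [Algebra R A] {𝒜 : ℕ → Submodule R A} [GradedAlgebra 𝒜]
  {κ : Type u} (g : κ → A) (hg : ∀ j, g j ∈ 𝒜 1) (hcov : ⨆ j, D 𝒜 (g j) = ⊤)
  (K : Type u) [Field K] [(Proj 𝒜).Over (Spec (CommRingCat.of K))] [IsProper ((Proj 𝒜) ↘ Spec (CommRingCat.of K))]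

include hg hcov in
theorem euler_twistF_sub {S : ShortComplex (Proj 𝒜).Modules} (hS : S.ShortExact) (j : ℤ)
    (h₁ : Coh.IsCoh ((twistF j).obj S.X₁)) (h₂ : Coh.IsCoh ((twistF j).obj S.X₂))
    (h₃ : Coh.IsCoh ((twistF j).obj S.X₃)) :
    Curv2.euler K (Proj 𝒜) ((twistF j).obj S.X₂) =
      Curv2.euler K (Proj 𝒜) ((twistF j).obj S.X₁) + Curv2.euler K (Proj 𝒜) ((twistF j).obj S.X₃) :=
  (HilbPoly.additive_euler K).add (RegDescent.twSeq S j) (RegDescent.twSeq_exact g hg hcov hS j) h₁ h₂ h₃

end Graded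

variable {k : Type u} [Field k] {n : ℕ}

/-- Euler characteristic of twists. -/
def chi (G : (CohB1.ProjSpace n k).Modules) (j : ℤ) : ℤ :=
  Curv2.euler k (CohB1.ProjSpace n k) (CohB1.tensorMod G (Twist.twistProjSpace n k j))

theorem chi_sub {S : ShortComplex (CohB1.ProjSpace n k).Modules} (hS : S.ShortExact)
    (h₁ : Coh.IsCoh S.X₁) (h₂ : Coh.IsCoh S.X₂) (h₃ : Coh.IsCoh S.X₃) (j : ℤ) :
    chi S.X₂ j = chi S.X₁ j + chi S.X₃ j := by
  haveI : IsProper ((CohB1.ProjSpace n k) ↘ Spec (CommRingCat.of k)) := PnCoh.Chow.isProper_toSpec n k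
  letI : (Proj (CohB1.polyGrading n k)).Over (Spec (CommRingCat.of k)) :=
    inferInstanceAs ((CohB1.ProjSpace n k).Over (Spec (CommRingCat.of k)))
  haveI : IsProper ((Proj (CohB1.polyGrading n k)) ↘ Spec (CommRingCat.of k)) := PnCoh.Chow.isProper_toSpec n k
  exact euler_twistF_sub (coords k n) coords_mem coords_cover k hS j
    (ProjRegular.isCoh_twistBy h₁ j) (ProjRegular.isCoh_twistBy h₂ j) (ProjRegular.isCoh_twistBy h₃ j)

theorem chi_twist (G : (CohB1.ProjSpace n k).Modules) (a j : ℤ) :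
    chi (CohB1.tensorMod G (Twist.twistProjSpace n k a)) j = chi G (a + j) := by
  haveI : IsProper ((CohB1.ProjSpace n k) ↘ Spec (CommRingCat.of k)) := PnCoh.Chow.isProper_toSpec n k
  exact (HilbPoly.additive_euler k).iso _ _ (ProjRegular.twist_twist_iso G a j)

theorem chi_iso {G G' : (CohB1.ProjSpace n k).Modules} (e : G ≅ G') (j : ℤ) : chi G j = chi G' j := by
  haveI : IsProper ((CohB1.ProjSpace n k) ↘ Spec (CommRingCat.of k)) := PnCoh.Chow.isProper_toSpec n k
  exact (HilbPoly.additive_euler k).iso _ _ ⟨(twF (k := k) (n := n) j).mapIso e⟩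

theorem chi_cokernel {G G' : (CohB1.ProjSpace n k).Modules} (a : G' ⟶ G) [Mono a]
    (h' : Coh.IsCoh G') (h : Coh.IsCoh G) (j : ℤ) : chi (cokernel a) j = chi G j - chi G' j := by
  haveI hP : IsNoetherian (Proj (CohB1.polyGrading n k)) := Proj16.isNoetherian_proj _
  have hS : (ShortComplex.mk a (cokernel.π a) (cokernel.condition a)).ShortExact :=
    .mk' (ShortComplex.exact_of_g_is_cokernel _ (cokernelIsCokernel a)) inferInstance inferInstance
  have := chi_sub hS h' h (QCoh.isCoh_cokernel (X := Proj (CohB1.polyGrading n k)) h'.1 h a) j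
  linarith

theorem isZero_twF_obj {G : (Proj (CohB1.polyGrading n k)).Modules} (hG : IsZero G) (j : ℤ) :
    IsZero ((twF j).obj G) := (twF (k := k) (n := n) j).map_isZero hG

theorem chi_of_isZero {G : (CohB1.ProjSpace n k).Modules} (hG : IsZero G) (j : ℤ) : chi G j = 0 := by
  refine finsum_eq_zero_of_forall_eq_zero fun i => ?_
  haveI : Subsingleton (Coh.HH (CohB1.ProjSpace n k) (CohB1.tensorMod G (Twist.twistProjSpace n k j)) i) :=
    Euler.subsingleton_HH_of_isZero (isZero_twF_obj hG j) i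
  rw [Module.finrank_zero_of_subsingleton]
  simp

theorem finrank_zero_eq_chi {E : (CohB1.ProjSpace n k).Modules} (hE : Coh.IsCoh E)
    (hreg : Curv2.IsMRegular k n E 0) {j : ℤ} (hj : 0 ≤ j) :
    chi E j = Module.finrank k (Coh.HH (CohB1.ProjSpace n k) (CohB1.tensorMod E (Twist.twistProjSpace n k j)) 0) := by
  have hv : ∀ i, 1 ≤ i → Subsingleton (Coh.HH (CohB1.ProjSpace n k) (CohB1.tensorMod E (Twist.twistProjSpace n k j)) i) := by
    intro i hi
    rcases le_or_gt i n with hin | hin
    · obtain ⟨e, he⟩ : ∃ e : ℕ, (e : ℤ) = j + i := ⟨(j + i).toNat, Int.toNat_of_nonneg (by omega)⟩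
      have h := ProjRegular.isMRegular_add hE hreg e i hi hin
      rwa [show (0 : ℤ) + (e : ℤ) - (i : ℤ) = j by omega] at h
    · exact ProjRegular.subsingleton_HH_high hE j i hin
  rw [chi, CurveCohLib.euler_eq_sum (N := 1) hv]
  simp

/-- A regular module with vanishing Hilbert function is zero. -/
theorem isZero_of_chi {E : (CohB1.ProjSpace n k).Modules} (hE : Coh.IsCoh E) (hreg : Curv2.IsMRegular k n E 0)
    (h : ∀ j, chi E j = 0) : IsZero E := by
  haveI : IsProper ((CohB1.ProjSpace n k) ↘ Spec (CommRingCat.of k)) := PnCoh.Chow.isProper_toSpec n k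
  haveI := CurveCohLib.isNoetherian_of_proper (k := k) (X := CohB1.ProjSpace n k)
  haveI := CurveCohLib.finite_HH (k := k) (ProjRegular.isCoh_twistBy hE 0) 0
  have h0 := finrank_zero_eq_chi hE hreg le_rfl
  rw [h 0, eq_comm, Int.natCast_eq_zero] at h0
  haveI := Module.finrank_zero_iff.1 h0
  have hsec : ∀ s : Γ(CohB1.tensorMod E (Twist.twistProjSpace n k 0), ⊤), s = 0 := fun s =>
    (Sheaf.H.equiv₀ (Coh.toAb (CohB1.tensorMod E (Twist.twistProjSpace n k 0))) isTerminalTop).symm.injective (Subsingleton.elim _ _)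
  obtain ⟨σ, p, hp⟩ := Groth.Agent.S1647.result k n E hE 0 hreg
  have hp0 : p = 0 := by
    apply ((CohB1.tensorMod E (Twist.twistProjSpace n k 0)).freeHomEquiv).injective
    funext i
    exact PresheafOfModules.sections_ext _ _ fun U => by
      have key : ∀ s : (CohB1.tensorMod E (Twist.twistProjSpace n k 0)).sections, s.val U = 0 := fun s => by
        rw [← s.property (homOfLE (le_top : U.unop ≤ ⊤)).op, show s.val (op ⊤) = 0 from hsec _]
        exact map_zero ((CohB1.tensorMod E (Twist.twistProjSpace n k 0)).presheaf.map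
          (homOfLE (le_top : U.unop ≤ ⊤)).op).hom
      exact (key _).trans (key _).symm
  have hz : IsZero (CohB1.tensorMod E (Twist.twistProjSpace n k 0)) := by
    rw [IsZero.iff_id_eq_zero, ← cancel_epi p, hp0]
    simp
  exact hz.of_iso ((PnDual.twistFZeroIso (asIso (oneHom (𝒜 := CohB1.polyGrading n k)))).app E).symm

theorem mono_of_natural {G E : (Proj (CohB1.polyGrading n k)).Modules} (f : G ⟶ E) [Mono f]
    {l : MvPolynomial (Fin (n + 1)) k} (hl : l ∈ CohB1.polyGrading n k 1) [Mono ((mulLin hl).app E)] :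
    Mono ((mulLin hl).app G) := by
  haveI : Mono ((twF (k := k) (n := n) (-1)).map f) := inferInstance
  have h : Mono ((mulLin hl).app G ≫ f) := by
    rw [show (mulLin hl).app G ≫ f = (twF (-1)).map f ≫ (mulLin hl).app E from ((mulLin hl).naturality f).symm]
    exact mono_comp _ _
  exact mono_of_mono _ f

/-- The model modules. -/
structure IsModel (p c : ℕ) (E : (CohB1.ProjSpace n k).Modules) : Prop where
  coh : Coh.IsCoh E
  reg : Curv2.IsMRegular k n E 0
  chi_eq : ∀ j, chi E j = (p : ℤ) * linDim c j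

variable [Infinite k]

/-- One hyperplane section. -/
theorem exists_section {p c : ℕ} {E G : (CohB1.ProjSpace n k).Modules} (hE : IsModel p (c + 1) E)
    (f : G ⟶ E) [Mono f] (hG : Coh.IsCoh G) :
    ∃ (ι : CohB1.tensorMod G (Twist.twistProjSpace n k (-1)) ⟶ G) (_ : Mono ι) (E' : (CohB1.ProjSpace n k).Modules)
      (f' : cokernel ι ⟶ E'), IsModel p c E' ∧ Mono f' ∧ Coh.IsCoh (cokernel ι) ∧
        ∀ j, chi (cokernel ι) j = chi G j - chi G (j - 1) := by
  haveI hP : IsNoetherian (Proj (CohB1.polyGrading n k)) := Proj16.isNoetherian_proj _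
  have hQ : Coh.IsCoh (cokernel f) := QCoh.isCoh_cokernel (X := Proj (CohB1.polyGrading n k)) hG.1 hE.coh f
  obtain ⟨l, hl, hmE, hmQ⟩ := exists_regular_mulLin E hE.coh hQ
  haveI := hmE
  haveI := hmQ
  haveI hmG := mono_of_natural f hl
  have hS : (ShortComplex.mk f (cokernel.π f) (cokernel.condition f)).ShortExact :=
    .mk' (ShortComplex.exact_of_g_is_cokernel _ (cokernelIsCokernel f)) inferInstance inferInstance
  have hS' := RegDescent.twSeq_exact (coords k n) coords_mem coords_cover hS (-1)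
  have hmono := mono_cokernel_map f (cokernel.π f) (cokernel.condition f)
    (RegDescent.twSeq (ShortComplex.mk f (cokernel.π f) (cokernel.condition f)) (-1)).f
    (RegDescent.twSeq (ShortComplex.mk f (cokernel.π f) (cokernel.condition f)) (-1)).g
    (RegDescent.twSeq (ShortComplex.mk f (cokernel.π f) (cokernel.condition f)) (-1)).zero hS'
    ((mulLin hl).app G) ((mulLin hl).app E) ((mulLin hl).app (cokernel f))
    ((mulLin hl).naturality f).symm ((mulLin hl).naturality (cokernel.π f)).symm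
  have hE1 := ProjRegular.isCoh_twistBy hE.coh (-1)
  have hG1 := ProjRegular.isCoh_twistBy hG (-1)
  refine ⟨(mulLin hl).app G, hmG, cokernel ((mulLin hl).app E), _,
    ⟨QCoh.isCoh_cokernel (X := Proj (CohB1.polyGrading n k)) hE1.1 hE.coh _,
      Groth.Agent.S16627.cokernel_regular k n E hE.coh 0 hE.reg _, fun j => ?_⟩, hmono,
    QCoh.isCoh_cokernel (X := Proj (CohB1.polyGrading n k)) hG1.1 hG _, fun j => ?_⟩
  · have h := chi_cokernel (n := n) (k := k) ((mulLin hl).app E) hE1 hE.coh j
    rw [show chi ((twF (-1)).obj E) j = chi E (-1 + j) from chi_twist E (-1) j] at h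
    refine h.trans ?_
    rw [show (-1 : ℤ) + j = j - 1 by ring]
    show chi E j - chi E (j - 1) = _
    rw [hE.chi_eq, hE.chi_eq, ← mul_sub, linDim_diff]
  · have h := chi_cokernel (n := n) (k := k) ((mulLin hl).app G) hG1 hG j
    rw [show chi ((twF (-1)).obj G) j = chi G (-1 + j) from chi_twist G (-1) j] at h
    refine h.trans ?_
    rw [show (-1 : ℤ) + j = j - 1 by ring]
    rfl

theorem isZero_of_model_zero {p : ℕ} {E G : (CohB1.ProjSpace n k).Modules} (hE : IsModel p 0 E)
    (f : G ⟶ E) [Mono f] : IsZero G :=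
  IsZero.of_mono f (isZero_of_chi hE.coh hE.reg fun j => by simp [hE.chi_eq, linDim])

/-- The Hilbert function is binomial. -/
theorem exists_coeff (p : ℕ) : ∀ (c : ℕ) (E G : (CohB1.ProjSpace n k).Modules), IsModel p c E →
    ∀ (f : G ⟶ E) [Mono f], Coh.IsCoh G →
      ∃ a : Fin c → ℤ, ∀ r, chi G r = ∑ i, a i * Ring.choose r (i : ℕ) := by
  intro c
  induction c with
  | zero =>
    intro E G hE f _ hG
    exact ⟨fun i => i.elim0, fun r => by simp [chi_of_isZero (isZero_of_model_zero hE f)]⟩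
  | succ c ih =>
    intro E G hE f _ hG
    obtain ⟨ι, hι, E', f', hE', hf', hc, hchi⟩ := exists_section hE f hG
    obtain ⟨b, hb⟩ := @ih E' (cokernel ι) hE' f' hf' hc
    exact exists_coeff_of_diff (b := b) fun r => (hchi r).symm.trans (hb r)

/-- Uniform regularity. -/
theorem isMRegular_bound (p : ℕ) : ∀ (c : ℕ) (E G : (CohB1.ProjSpace n k).Modules), IsModel p c E →
    ∀ (f : G ⟶ E) [Mono f], Coh.IsCoh G → ∀ a : Fin c → ℤ,
      (∀ r, chi G r = ∑ i, a i * Ring.choose r (i : ℕ)) →
        Curv2.IsMRegular k n G (MvPolynomial.eval a (bound p c)) := by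
  intro c
  induction c with
  | zero =>
    intro E G hE f _ hG a _ i _ _
    exact Euler.subsingleton_HH_of_isZero (isZero_twF_obj (isZero_of_model_zero hE f) _) i
  | succ c ih =>
    intro E G hE f _ hG a ha
    obtain ⟨ι, hι, E', f', hE', hf', hc, hchi⟩ := exists_section hE f hG
    have hreg' := @ih E' (cokernel ι) hE' f' hf' hc (shift c fun i => a i.succ) fun r => by
      rw [hchi, ha, ha, sum_diff]
    obtain ⟨h1, hle, hfin⟩ := le_eval_bound p c a
    set v := MvPolynomial.eval (shift c fun i => a i.succ) (bound p c)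
    set m₁ := v ^ 2 + 1
    obtain ⟨e, he⟩ : ∃ e : ℕ, m₁ = v + (e : ℤ) := ⟨(m₁ - v).toNat, by rw [Int.toNat_of_nonneg (by omega)]; ring⟩
    have hG' : Curv2.IsMRegular k n (cokernel ι) m₁ := he ▸ ProjRegular.isMRegular_add hc hreg' e
    obtain ⟨T⟩ := Groth.Agent.S11296.exists_setup k n G hG ι m₁ hG'
    have hh1 : (RegDescent.h1 (k := k) G (m₁ - 1) : ℤ) ≤
        (p : ℤ) * linDim (c + 1) (m₁ - 1) - ∑ i, a i * Ring.choose (m₁ - 1) (i : ℕ) := by
      have hv : ∀ i, 2 ≤ i → Subsingleton (Coh.HH (CohB1.ProjSpace n k)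
          (CohB1.tensorMod G (Twist.twistProjSpace n k (m₁ - 1))) i) := fun i hi =>
        RegDescent.subsingleton_high T i hi (m₁ - 1) (by omega)
      have hχ : chi G (m₁ - 1) = (Module.finrank k (Coh.HH (CohB1.ProjSpace n k)
          (CohB1.tensorMod G (Twist.twistProjSpace n k (m₁ - 1))) 0) : ℤ) - (RegDescent.h1 (k := k) G (m₁ - 1) : ℤ) := by
        rw [chi, CurveCohLib.euler_eq_sum (N := 2) hv, Finset.sum_range_succ, Finset.sum_range_one]
        simp only [pow_zero, pow_one, one_mul, neg_one_mul, sub_eq_add_neg]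
        rfl
      haveI : IsProper ((CohB1.ProjSpace n k) ↘ Spec (CommRingCat.of k)) := PnCoh.Chow.isProper_toSpec n k
      haveI : Mono ((twF (k := k) (n := n) (m₁ - 1)).map f) := inferInstance
      have h0 : Module.finrank k (Coh.HH (CohB1.ProjSpace n k)
          (CohB1.tensorMod G (Twist.twistProjSpace n k (m₁ - 1))) 0) ≤ Module.finrank k (Coh.HH (CohB1.ProjSpace n k)
          (CohB1.tensorMod E (Twist.twistProjSpace n k (m₁ - 1))) 0) :=
        VolLib.finrank_le_of_mono (k := k) (X := CohB1.ProjSpace n k) ((twF (k := k) (n := n) (m₁ - 1)).map f)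
          (ProjRegular.isCoh_twistBy hE.coh _)
      have hE0 := finrank_zero_eq_chi hE.coh hE.reg (show 0 ≤ m₁ - 1 by omega)
      rw [hE.chi_eq] at hE0
      rw [← ha, hχ]
      omega
    obtain ⟨d, hd⟩ : ∃ d : ℕ, MvPolynomial.eval a (bound p (c + 1)) =
        m₁ + (RegDescent.h1 (k := k) G (m₁ - 1) : ℤ) + (d : ℤ) := by
      refine ⟨(MvPolynomial.eval a (bound p (c + 1)) - m₁ - (RegDescent.h1 (k := k) G (m₁ - 1) : ℤ)).toNat, ?_⟩
      rw [Int.toNat_of_nonneg (by omega)]
      ring
    rw [hd]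
    refine ProjRegular.isMRegular_add hG (fun i hi hin => ?_) d
    rcases Nat.lt_or_ge i 2 with h | h
    · obtain rfl : i = 1 := by omega
      exact RegDescent.subsingleton_one T _ (by push_cast; omega)
    · exact RegDescent.subsingleton_high T i h _ (by omega)

end Groth.Agent.UnifReg
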