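import Groth.Agent.Lib.RegEpiPn
import Groth.Agent.Lib.PnDualMul
import Groth.Agent.Lib.PnDualTwistAdj
import Groth.Agent.KFlatLib.Perfect.Spread
import Groth.Agent.AssPtX.Noeth
import Groth.Agent.S10915

/-!
Multiplication by a linear form on modules over projective space.
-/

set_option linter.style.haveILetI false
set_option linter.unusedSectionVars false
set_option backward.isDefEq.respectTransparency false
set_option backward.isDefEq.respectTransparency.types false
set_option maxHeartbeats 1000000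

universe u

open CategoryTheory CategoryTheory.Limits AlgebraicGeometry TopologicalSpace Opposite MonoidalCategory
open Groth.Agent.PnCoh.Finite Groth.Agent.ProjRegular Groth.Agent.RegEpi

noncomputable section

namespace Groth.Agent.UnifReg

section Graded

variable {R A : Type u} [CommRing R] [CommRing A] [Algebra R A]
  {𝒜 : ℕ → Submodule R A} [GradedAlgebra 𝒜] {a : A}

theorem bijective_mulHom_app (ha : a ∈ 𝒜 1) {W : (Proj 𝒜).Opens} (hW : W ≤ D 𝒜 a) :
    Function.Bijective ((PnDual.mulHom ha (show (0 : ℤ) = -1 + ((1 : ℕ) : ℤ) by norm_num)).app W) := by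
  have hne : ∀ x : W, a ∉ x.1.asHomogeneousIdeal.toIdeal := fun x => hW x.2
  constructor
  · intro s t h
    refine Subtype.ext (funext fun x => Subtype.ext ?_)
    have h' := congrArg (fun q => ((show Twist.sectN (𝒜 := 𝒜) 0 (op W) from q).1 x).1) h
    simp only [PnDual.mulHom_app, PnDual.mulFracSect_apply] at h'
    have hu : IsUnit (PnDual.fracOne x.1 a : Twist.Loc 𝒜 x.1) := by
      show IsUnit (Localization.mk a (1 : x.1.asHomogeneousIdeal.toIdeal.primeCompl) : Twist.Loc 𝒜 x.1)
      rw [Localization.mk_one_eq_algebraMap]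
      exact (IsLocalization.AtPrime.isUnit_to_map_iff _ x.1.asHomogeneousIdeal.toIdeal _).2 (hne x)
    exact hu.mul_left_inj.1 h'
  · intro t'
    let t : Twist.sectN (𝒜 := 𝒜) 0 (op W) := t'
    have hinv : ∀ x : W, (Localization.mk 1 ⟨a, hne x⟩ : Twist.Loc 𝒜 x.1) ∈ Twist.twistAt 𝒜 (-1) x.1 :=
      fun x => Submodule.subset_span ⟨0, 1, ⟨1, SetLike.GradedOne.one_mem⟩, ⟨a, ha⟩, hne x, by simp, rfl⟩
    refine ⟨(⟨fun x => ⟨(t.1 x).1 * Localization.mk 1 ⟨a, hne x⟩, ?_⟩, fun x => ?_⟩ :
      Twist.sectN (𝒜 := 𝒜) (-1) (op W)), ?_⟩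
    · have h := mul_mem_twistAt (t.1 x).2 (hinv x)
      simpa using h
    · obtain ⟨V, hxV, iV, i, j, p, q, nq, hij, w⟩ := t.2 x
      refine ⟨V, hxV, iV, i, j + 1, p, ⟨q.1 * a, SetLike.mul_mem_graded q.2 ha⟩,
        fun y h => (y.1.isPrime.mem_or_mem h).elim (nq y) (hne (iV y)), ?_, fun y => ?_⟩
      · rcases hij with h' | h'
        · exact Or.inl (by push_cast; omega)
        · exact Or.inr h'
      · show (t.1 (iV y)).1 * Localization.mk 1 _ = _
        rw [show (t.1 (iV y)).1 = _ from w y, Localization.mk_mul, mul_one]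
        rfl
    · refine Subtype.ext (funext fun x => Subtype.ext ?_)
      show (t.1 x).1 * Localization.mk 1 _ * Localization.mk a 1 = (t.1 x).1
      rw [mul_assoc, Localization.mk_mul, one_mul, mul_one,
        Localization.mk_self (⟨a, hne x⟩ : x.1.asHomogeneousIdeal.toIdeal.primeCompl), mul_one]

theorem isIso_restrict_mulHom (ha : a ∈ 𝒜 1) :
    IsIso ((Scheme.Modules.restrictFunctor (D 𝒜 a).ι).map
      (PnDual.mulHom ha (show (0 : ℤ) = -1 + ((1 : ℕ) : ℤ) by norm_num))) :=
  Scheme.Modules.Hom.isIso_iff_isIso_app.2 fun O =>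
    (ConcreteCategory.isIso_iff_bijective _).2
      (bijective_mulHom_app ha ((Scheme.Hom.image_le_opensRange (D 𝒜 a).ι O).trans_eq (D 𝒜 a).opensRange_ι))

variable [IsIso (oneHom (𝒜 := 𝒜))]

/-- Multiplication by an element of degree one. -/
def mulNat (ha : a ∈ 𝒜 1) : twistF (𝒜 := 𝒜) (-1) ⟶ 𝟭 (Proj 𝒜).Modules :=
  (DCoh.tensorBi.flip.map (PnDual.mulHom ha (show (0 : ℤ) = -1 + ((1 : ℕ) : ℤ) by norm_num))) ≫
    (PnDual.twistFZeroIso (asIso (oneHom (𝒜 := 𝒜)))).hom

variable (ha : a ∈ 𝒜 1) (M : (Proj 𝒜).Modules)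

theorem isIso_restrict_mulNat :
    IsIso ((Scheme.Modules.restrictFunctor (D 𝒜 a).ι).map ((mulNat ha).app M)) := by
  have := isIso_restrict_mulHom (𝒜 := 𝒜) ha
  have h := (NatIso.isIso_map_iff ((KFlatLib.restrictTensorBiIso (D 𝒜 a).ι).app M)
    (PnDual.mulHom ha (show (0 : ℤ) = -1 + ((1 : ℕ) : ℤ) by norm_num))).2 (by
      simp only [Functor.comp_map, Functor.whiskeringLeft_obj_obj, Functor.comp_obj]
      infer_instance)
  rw [mulNat, NatTrans.comp_app, Functor.map_comp]
  haveI : IsIso ((Scheme.Modules.restrictFunctor (D 𝒜 a).ι).map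
      ((DCoh.tensorBi.flip.map (PnDual.mulHom ha (show (0 : ℤ) = -1 + ((1 : ℕ) : ℤ) by norm_num))).app M)) := h
  infer_instance

/-- An element of degree one avoiding the associated points is regular. -/
theorem mono_mulNat (hM : Coh.IsQCoh ((twistF (-1)).obj M))
    (h : ∀ x : (Proj 𝒜 : Scheme.{u}),
      Curv2.IsWeakAssPoint ((twistF (-1)).obj M) x → x ∈ D 𝒜 a) :
    Mono ((mulNat ha).app M) := by
  refine AssPtX.mono_of_stalk _ hM fun x => ?_
  by_cases hx : Curv2.IsWeakAssPoint ((twistF (-1)).obj M) x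
  · haveI := KFlatLib.isIso_stalk_of_restrict ((mulNat ha).app M) (h x hx) (isIso_restrict_mulNat ha M)
    exact Or.inl (ConcreteCategory.bijective_of_isIso ((DerSch.stalkFunctor _ x).map ((mulNat ha).app M))).1
  · exact Or.inr hx

end Graded

variable {k : Type u} [Field k] {n : ℕ}

instance isIso_oneHom_pn : IsIso (oneHom (𝒜 := CohB1.polyGrading n k)) :=
  isIso_oneHom (coords k n) coords_mem coords_cover

/-- Multiplication by a linear form. -/
def mulLin {l : MvPolynomial (Fin (n + 1)) k} (hl : l ∈ CohB1.polyGrading n k 1) :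
    twF (k := k) (n := n) (-1) ⟶ 𝟭 (Proj (CohB1.polyGrading n k)).Modules :=
  mulNat hl

variable (M : (Proj (CohB1.polyGrading n k)).Modules)

theorem constantCoeff_eq_zero {p : MvPolynomial (Fin (n + 1)) k}
    (hp : p ∈ HomogeneousIdeal.irrelevant (CohB1.polyGrading n k)) : MvPolynomial.constantCoeff p = 0 := by
  have hp' : GradedRing.proj (CohB1.polyGrading n k) 0 p = 0 := hp
  rw [GradedRing.proj_apply] at hp'
  erw [MvPolynomial.decomposition.decompose'_apply] at hp'
  rw [MvPolynomial.homogeneousComponent_zero] at hp'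
  simpa [MvPolynomial.constantCoeff_eq] using hp'

open MvPolynomial Groth.Agent.VarDim Groth.Agent.VarDim.ProjN in
/-- Over an infinite field there is a linear form regular on finitely many given coherent modules. -/
theorem exists_regular_mulLin [Infinite k] (hM : Coh.IsCoh M) {N : (Proj (CohB1.polyGrading n k)).Modules}
    (hN : Coh.IsCoh N) :
    ∃ (l : MvPolynomial (Fin (n + 1)) k) (hl : l ∈ CohB1.polyGrading n k 1),
      Mono ((mulLin hl).app M) ∧ Mono ((mulLin hl).app N) := by
  haveI hP : IsNoetherian (Proj (CohB1.polyGrading n k)) := Proj16.isNoetherian_proj _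
  haveI : IsLocallyNoetherian (CohB1.ProjSpace n k) := hP.toIsLocallyNoetherian
  let F : Set (Ideal (MvPolynomial (Fin (n + 1)) k)) :=
    (fun x : (Proj (CohB1.polyGrading n k) : Scheme.{u}) =>
      (show ProjectiveSpectrum (CohB1.polyGrading n k) from x).asHomogeneousIdeal.toIdeal) ''
      ({x | x ∈ (⊤ : (Proj (CohB1.polyGrading n k)).Opens) ∧ Curv2.IsAssPoint ((twF (-1)).obj M) x} ∪
       {x | x ∈ (⊤ : (Proj (CohB1.polyGrading n k)).Opens) ∧ Curv2.IsAssPoint ((twF (-1)).obj N) x})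
  have hF : F.Finite :=
    ((AssPtX.finite_assPoints (X := Proj (CohB1.polyGrading n k)) (U := ⊤) (ProjRegular.isCoh_twistBy hM (-1)) isCompact_univ).union
      (AssPtX.finite_assPoints (X := Proj (CohB1.polyGrading n k)) (U := ⊤) (ProjRegular.isCoh_twistBy hN (-1)) isCompact_univ)).image _
  obtain ⟨l, hl, hlF⟩ := S10915.exists_avoiding k n F hF (by
    rintro _ ⟨x, -, rfl⟩
    refine ⟨x.isPrime, x.asHomogeneousIdeal.isHomogeneous, fun he => ?_⟩
    refine x.not_irrelevant_le fun p hp => ?_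
    show p ∈ x.asHomogeneousIdeal.toIdeal
    rw [show x.asHomogeneousIdeal.toIdeal = vertex k n from he]
    show MvPolynomial.constantCoeff p = 0
    exact constantCoeff_eq_zero hp)
  refine ⟨l, hl, mono_mulNat hl M (ProjRegular.isCoh_twistBy hM (-1)).1 fun x hx => ?_,
    mono_mulNat hl N (ProjRegular.isCoh_twistBy hN (-1)).1 fun x hx => ?_⟩
  · exact hlF _ ⟨x, Or.inl ⟨trivial, AssPtX.isAssPoint_iff.2 hx⟩, rfl⟩
  · exact hlF _ ⟨x, Or.inr ⟨trivial, AssPtX.isAssPoint_iff.2 hx⟩, rfl⟩

end Groth.Agent.UnifReg
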